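import Cfsg.Agent.Lib.GW.Basic
import Cfsg.Agent.Lib.GD.T5
import Cfsg.Agent.Lib.CoreRealTwo
import Cfsg.Agent.Lib.H5Real

/-!
# Real classes with equal `2`-parts: basic tools
-/

set_option autoImplicit false

namespace CfsgLib.RC

open Subgroup Cfsg CfsgLib.FT CfsgLib.FT.BGN CfsgLib.GW
open CfsgLib.FT.U4 (mem_cent1 mem_cent1' mem_cent mem_cent1_comm self_mem_cent1 cent1_conj
  orderOf_conj cent_le_cent1)

variable {G : Type*} [Group G]

/-- Real elements. -/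
def Rl (g : G) : Prop := ∃ t, t * g * t⁻¹ = g⁻¹

/-- `2`-elements. -/
def Two (g : G) : Prop := IsPGroup 2 (zpowers g)

/-- All non-central real elements have centralizers with `2`-part `N`. -/
structure Hy (G : Type*) [Group G] (N : ℕ) : Prop where
  od : Od (⊤ : Subgroup G) = ⊥
  card : ∀ g : G, Rl g → g ∉ center G → ∀ D, IsSylowIn 2 D 𝐂[g] → Nat.card D = N

theorem two_of_mem {T : Subgroup G} (hT : IsPGroup 2 T) {g : G} (hg : g ∈ T) : Two g :=
  hT.to_le (zpowers_le.2 hg)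

theorem Two.of_mem {g h : G} (hg : Two g) (hh : h ∈ zpowers g) : Two h := two_of_mem hg hh

theorem two_iff {g : G} : Two g ↔ ∃ k, g ^ 2 ^ k = 1 := by
  constructor
  · intro h
    obtain ⟨k, hk⟩ := h ⟨g, mem_zpowers g⟩
    exact ⟨k, congrArg Subtype.val hk⟩
  · rintro ⟨k, hk⟩ ⟨y, n, rfl⟩
    refine ⟨k, Subtype.ext ?_⟩
    change (g ^ n) ^ 2 ^ k = 1
    rw [← zpow_natCast, ← zpow_mul, mul_comm, zpow_mul, zpow_natCast, hk, one_zpow]

theorem two_of_sq {g : G} (h : Two (g * g)) : Two g := by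
  obtain ⟨k, hk⟩ := two_iff.1 h
  exact two_iff.2 ⟨k + 1, by rw [pow_succ', pow_mul, sq, hk]⟩

theorem Two.conj {g : G} (h : Two g) (y : G) : Two (y * g * y⁻¹) := by
  obtain ⟨k, hk⟩ := two_iff.1 h
  exact two_iff.2 ⟨k, by rw [conj_pow, hk]; group⟩

theorem Two.eq_one [Finite G] {g : G} (h : Two g) (ho : Odd (orderOf g)) : g = 1 :=
  GD.eq_one_of_two_odd h (mem_zpowers g) ho

theorem cen_comm {z : G} (hz : z ∈ center G) (g : G) : g * z = z * g := mem_center_iff.1 hz g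

theorem cen_conj {z : G} (hz : z ∈ center G) (g : G) : g * z * g⁻¹ = z := by
  rw [cen_comm hz g]; group

theorem conj_mem_center {g y : G} : y * g * y⁻¹ ∈ center G ↔ g ∈ center G := by
  refine ⟨fun h => ?_, fun h => by rwa [cen_conj h]⟩
  have := cen_conj h y⁻¹
  rwa [← this, show y⁻¹ * (y * g * y⁻¹) * y⁻¹⁻¹ = g by group] at h

theorem inv_of_mem_zpowers {t g h : G} (e : t * g * t⁻¹ = g⁻¹) (hh : h ∈ zpowers g) :
    t * h * t⁻¹ = h⁻¹ := by
  obtain ⟨n, rfl⟩ := hh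
  change t * g ^ n * t⁻¹ = (g ^ n)⁻¹
  rw [← conj_zpow, e, inv_zpow]

theorem Rl.of_mem {g h : G} (e : Rl g) (hh : h ∈ zpowers g) : Rl h :=
  e.imp fun _ e => inv_of_mem_zpowers e hh

theorem Rl.conj {g : G} (h : Rl g) (y : G) : Rl (y * g * y⁻¹) := by
  obtain ⟨t, ht⟩ := h
  refine ⟨y * t * y⁻¹, ?_⟩
  rw [show y * t * y⁻¹ * (y * g * y⁻¹) * (y * t * y⁻¹)⁻¹ = y * (t * g * t⁻¹) * y⁻¹ by group, ht]
  group

theorem rl_of_sq {g : G} (h : g * g = 1) : Rl g := ⟨1, by rw [inv_eq_of_mul_eq_one_left h]; group⟩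

theorem sq_of_inv_of_comm {t g : G} (e : t * g * t⁻¹ = g⁻¹) (h : t * g = g * t) : g * g = 1 := by
  rw [h, mul_inv_cancel_right] at e
  exact mul_eq_one_iff_eq_inv.2 e

theorem not_center_of_odd {t x : G} (ho : Odd (orderOf x)) (h1 : x ≠ 1)
    (e : t * x * t⁻¹ = x⁻¹) : x ∉ center G := fun h =>
  h1 (eq_one_of_odd_of_mul_self ho (sq_of_inv_of_comm e (cen_comm h t)))

/-- Two elements with the same central square. -/
theorem inv_pair {a b : G} (h : a * a = b * b) (hz : a * a ∈ center G) :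
    a * (a * b⁻¹) * a⁻¹ = (a * b⁻¹)⁻¹ := by
  have e : a * a * b⁻¹ = b := by rw [h]; group
  rw [← mul_assoc, e]; group

theorem inv_pair' {a b : G} (h : a * a = b * b) (hz : a * a ∈ center G) :
    b * (a * b⁻¹) * b⁻¹ = (a * b⁻¹)⁻¹ := by
  have e : a * (b * b)⁻¹ = a⁻¹ := by rw [← h]; group
  rw [show b * (a * b⁻¹) * b⁻¹ = b * (a * (b * b)⁻¹) by group, e]; group

theorem mem_ext {D : Subgroup G} {y x : G} (hn : y ∈ 𝐍(D)) (h2 : y * y ∈ D) :
    x ∈ D ⊔ zpowers y ↔ x ∈ D ∨ x * y⁻¹ ∈ D := by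
  constructor
  · intro hx
    obtain ⟨d, hd, a, ⟨n, rfl⟩, rfl⟩ := (mem_sup_iff_of_le_normalizer' (zpowers_le.2 hn)).1 hx
    have h3 : ∀ m : ℤ, y ^ (2 * m) ∈ D := fun m => by
      rw [zpow_mul, zpow_two]; exact zpow_mem h2 m
    rcases Int.even_or_odd' n with ⟨m, rfl | rfl⟩
    · exact .inl (mul_mem hd (h3 m))
    · refine .inr ?_
      change d * y ^ (2 * m + 1) * y⁻¹ ∈ D
      rw [zpow_add_one, mul_assoc, mul_inv_cancel_right]
      exact mul_mem hd (h3 m)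
  · rintro (h | h)
    · exact mem_sup_left h
    · rw [show x = x * y⁻¹ * y by group]
      exact mul_mem (mem_sup_left h) (mem_sup_right (mem_zpowers y))

theorem two_ext {D : Subgroup G} (hD : IsPGroup 2 D) {y : G} (hn : y ∈ 𝐍(D)) (h2 : Two y) :
    IsPGroup 2 ↥(D ⊔ zpowers y) :=
  isPGroup_sup' (zpowers_le.2 hn) hD h2

variable [Finite G]

theorem two_mul_le {H K : Subgroup G} (h : H ≤ K) {y : G} (hy : y ∈ K) (hy' : y ∉ H) :
    2 * Nat.card H ≤ Nat.card K := by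
  obtain ⟨m, hm⟩ := card_dvd_of_le h
  have h1 : Nat.card H < Nat.card K :=
    Set.Finite.card_lt_card (Set.toFinite _) ⟨h, fun e => hy' (e hy)⟩
  have h2 : 2 ≤ m := by
    by_contra h3
    have : m = 0 ∨ m = 1 := by omega
    rcases this with rfl | rfl <;> omega
  rw [hm, mul_comm]
  exact Nat.mul_le_mul_left _ h2

theorem card_ext_le {D : Subgroup G} {y : G} (hn : y ∈ 𝐍(D)) (h2 : y * y ∈ D) :
    Nat.card ↥(D ⊔ zpowers y) ≤ 2 * Nat.card D := by
  have e : ((D ⊔ zpowers y : Subgroup G) : Set G) ⊆ (D : Set G) ∪ (fun d => d * y) '' D :=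
    fun x hx => ((mem_ext hn h2).1 hx).imp id fun h => ⟨_, h, by group⟩
  have := (Set.ncard_le_ncard e).trans (Set.ncard_union_le _ _)
  rw [Set.ncard_image_of_injective _ (mul_left_injective y)] at this
  change Nat.card ((D ⊔ zpowers y : Subgroup G) : Set G) ≤ 2 * Nat.card (D : Set G)
  rw [Nat.card_coe_set_eq, Nat.card_coe_set_eq]
  omega

theorem exists_sq_mem {C : Subgroup G} {x : G} (hp : Two x) (h : x ∉ C) :
    ∃ y ∈ zpowers x, y ∉ C ∧ y * y ∈ C := by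
  classical
  obtain ⟨k, hk⟩ := two_iff.1 hp
  have h1 : ∃ j, x ^ 2 ^ j ∈ C := ⟨k, hk ▸ one_mem C⟩
  obtain ⟨j, hj⟩ : ∃ j, Nat.find h1 = j + 1 := Nat.exists_eq_succ_of_ne_zero fun e => by
    have := Nat.find_spec h1
    rw [e, pow_zero, pow_one] at this
    exact h this
  refine ⟨x ^ 2 ^ j, pow_mem (mem_zpowers x) _, Nat.find_min h1 (by omega), ?_⟩
  have := Nat.find_spec h1
  rwa [hj, pow_succ, pow_mul, sq] at this

theorem grow {T S : Subgroup G} (hS : IsPGroup 2 S) (h : T < S) :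
    ∃ y ∈ S, y ∈ 𝐍(T) ∧ y ∉ T ∧ y * y ∈ T := by
  have := Fact.mk Nat.prime_two
  obtain ⟨x, hx, hx'⟩ := SetLike.exists_of_lt (lt_inf_normalizer_of_isPGroup hS h)
  obtain ⟨y, hy, h1, h2⟩ := exists_sq_mem (two_of_mem hS hx.1) hx'
  exact ⟨y, (zpowers_le.2 hx hy).1, (zpowers_le.2 hx hy).2, h1, h2⟩

theorem grow' {T : Subgroup G} (hT : IsPGroup 2 T) (h : ¬ IsSylowIn 2 T ⊤) :
    ∃ y ∈ 𝐍(T), y ∉ T ∧ y * y ∈ T := by
  have := Fact.mk Nat.prime_two
  obtain ⟨S, h1, h2⟩ := IsSylowIn.exists_ge hT le_top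
  obtain ⟨y, -, h3⟩ := grow h2.isPGroup (lt_of_le_of_ne h1 fun e => h (e ▸ h2))
  exact ⟨y, h3⟩

theorem eq_of_sq_eq {a b : G} (ha : Odd (orderOf a)) (hb : Odd (orderOf b)) (h : a * a = b * b) :
    a = b := by
  obtain ⟨k, hk⟩ := ha.mul hb
  have h1 : a ^ (2 * k + 1) = 1 := hk ▸ orderOf_dvd_iff_pow_eq_one.1 (dvd_mul_right _ _)
  have h2 : b ^ (2 * k + 1) = 1 := hk ▸ orderOf_dvd_iff_pow_eq_one.1 (dvd_mul_left _ _)
  rw [pow_succ, pow_mul, sq] at h1 h2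
  rw [h, ← h2] at h1
  exact mul_left_cancel h1

/-- The extended centralizer. -/
def Cs (g : G) : Subgroup G where
  carrier := {y | y * g * y⁻¹ = g ∨ y * g * y⁻¹ = g⁻¹}
  one_mem' := .inl (by group)
  mul_mem' := by
    rintro a b ha hb
    have e : a * b * g * (a * b)⁻¹ = a * (b * g * b⁻¹) * a⁻¹ := by group
    have e' : a * g⁻¹ * a⁻¹ = (a * g * a⁻¹)⁻¹ := by group
    rcases ha with ha | ha <;> rcases hb with hb | hb
    · exact .inl (by rw [e, hb, ha])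
    · exact .inr (by rw [e, hb, e', ha])
    · exact .inr (by rw [e, hb, ha])
    · exact .inl (by rw [e, hb, e', ha, inv_inv])
  inv_mem' := by
    rintro a (ha | ha)
    · exact .inl (by conv_lhs => rw [← ha]
                     group)
    · refine .inr ?_
      have : g = a * g⁻¹ * a⁻¹ := by
        rw [show a * g⁻¹ * a⁻¹ = (a * g * a⁻¹)⁻¹ by group, ha, inv_inv]
      conv_lhs => rw [this]
      group

omit [Finite G] in
theorem mem_Cs {g y : G} : y ∈ Cs g ↔ y ∈ 𝐂[g] ∨ y * g * y⁻¹ = g⁻¹ := by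
  rw [mem_cent1, ← mul_inv_eq_iff_eq_mul]; rfl

omit [Finite G] in
theorem cent_le_Cs (g : G) : 𝐂[g] ≤ Cs g := fun _ h => mem_Cs.2 (.inl h)

omit [Finite G] in
theorem mul_mem_cent {g a b : G} (ha : a * g * a⁻¹ = g⁻¹) (hb : b * g * b⁻¹ = g⁻¹) :
    a * b ∈ 𝐂[g] := by
  refine U4.mem_cent1_of_conj_eq ?_
  rw [show a * b * g * (a * b)⁻¹ = a * (b * g * b⁻¹) * a⁻¹ by group, hb,
    show a * g⁻¹ * a⁻¹ = (a * g * a⁻¹)⁻¹ by group, ha, inv_inv]

omit [Finite G] in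
theorem inv_inverts {g a : G} (ha : a * g * a⁻¹ = g⁻¹) : a⁻¹ * g * a⁻¹⁻¹ = g⁻¹ := by
  have : g = a * g⁻¹ * a⁻¹ := by
    rw [show a * g⁻¹ * a⁻¹ = (a * g * a⁻¹)⁻¹ by group, ha, inv_inv]
  conv_lhs => rw [this]
  group

omit [Finite G] in
theorem mul_inverts {g c a : G} (hc : c ∈ 𝐂[g]) (ha : a * g * a⁻¹ = g⁻¹) :
    c * a * g * (c * a)⁻¹ = g⁻¹ := by
  rw [show c * a * g * (c * a)⁻¹ = c * (a * g * a⁻¹) * c⁻¹ by group, ha,
    show c * g⁻¹ * c⁻¹ = (c * g * c⁻¹)⁻¹ by group, U4.conj_eq_of_mem_cent1 hc]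

omit [Finite G] in
theorem mul_inverts' {g c a : G} (hc : c ∈ 𝐂[g]) (ha : a * g * a⁻¹ = g⁻¹) :
    a * c * g * (a * c)⁻¹ = g⁻¹ := by
  rw [show a * c * g * (a * c)⁻¹ = a * (c * g * c⁻¹) * a⁻¹ by group, U4.conj_eq_of_mem_cent1 hc, ha]

theorem Cs_le_norm (g : G) : Cs g ≤ 𝐍(𝐂[g]) := fun y hy => by
  rcases mem_Cs.1 hy with h | h
  · exact le_normalizer h
  · exact H5.mem_normalizer_centralizer_of_inverts h

/-- `D` is a Sylow subgroup of `C(g)` normalized by `t`, which inverts `g`. -/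
structure DE (N : ℕ) (g : G) (D : Subgroup G) (t : G) : Prop where
  two : IsPGroup 2 D
  le : D ≤ 𝐂[g]
  card : Nat.card D = N
  inv : t * g * t⁻¹ = g⁻¹
  norm : t ∈ 𝐍(D)
  sq : t * t ∈ D

namespace Hy
variable {N : ℕ} (h : Hy G N)
include h

theorem two_center : IsPGroup 2 (center G) := fun g => by
  obtain ⟨u, -, v, hv, e, hu, ho⟩ := GD.exists_two_part (g : G)
  have hv' : v ∈ center G := zpowers_le.2 g.2 hv
  have : zpowers v ≤ Od (⊤ : Subgroup G) := le_Od le_top (fun y _ =>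
    cent_le_norm _ (mem_cent.2 fun w hw => (cen_comm (zpowers_le.2 hv' hw) y).symm))
    (by rwa [Nat.card_zpowers])
  rw [h.od] at this
  have e1 : v = 1 := this (mem_zpowers v)
  obtain ⟨k, hk⟩ := two_iff.1 hu
  refine ⟨k, Subtype.ext ?_⟩
  change (g : G) ^ 2 ^ k = 1
  rw [e, e1, mul_one, hk]

theorem two_of_sq_center {g : G} (hg : g * g ∈ center G) : Two g :=
  two_of_sq (two_of_mem h.two_center hg)

theorem le_N {g : G} (hr : Rl g) (hz : g ∉ center G) {T : Subgroup G} (hT : IsPGroup 2 T)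
    (hle : T ≤ 𝐂[g]) : Nat.card T ≤ N := by
  have := Fact.mk Nat.prime_two
  obtain ⟨D, h1, h2⟩ := IsSylowIn.exists_ge hT hle
  exact h.card g hr hz D h2 ▸ card_le_of_le h1

/-- A subgroup of order `N` in the centralizer of a real element is a Sylow subgroup. -/
theorem mem_of_cent {g : G} (hr : Rl g) (hz : g ∉ center G) {D : Subgroup G} (hD : IsPGroup 2 D)
    (hle : D ≤ 𝐂[g]) (hc : N ≤ Nat.card D) {y : G} (hy : y ∈ 𝐂[g]) (hn : y ∈ 𝐍(D))
    (h2 : Two y) : y ∈ D := by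
  by_contra h3
  have h4 := h.le_N hr hz (two_ext hD hn h2) (sup_le hle (zpowers_le.2 hy))
  have h5 := two_mul_le (le_sup_left : D ≤ D ⊔ zpowers y) (mem_sup_right (mem_zpowers y)) h3
  have := Nat.card_pos (α := D)
  omega

theorem le_of_cent {g : G} (hr : Rl g) (hz : g ∉ center G) {D : Subgroup G}
    (hc : N ≤ Nat.card D) {T : Subgroup G} (hT : IsPGroup 2 T) (h1 : D ≤ T) (h2 : T ≤ 𝐂[g]) :
    T = D :=
  (eq_of_le_of_card_ge h1 ((h.le_N hr hz hT h2).trans hc)).symm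

theorem exists_DE {g t : G} (hz : g ∉ center G) (e : t * g * t⁻¹ = g⁻¹) {T : Subgroup G}
    (hT : IsPGroup 2 T) (hle : T ≤ Cs g) (ht : t ∈ T) : ∃ D, DE N g D t ∧ T ⊓ 𝐂[g] ≤ D := by
  have := Fact.mk Nat.prime_two
  obtain ⟨E, h1, h2⟩ := IsSylowIn.exists_ge hT hle
  have h3 := h2.inf_of_le_normalizer (cent_le_Cs g) (h2.le.trans (Cs_le_norm g))
  refine ⟨E ⊓ 𝐂[g], ⟨h3.isPGroup, inf_le_right, h.card g ⟨t, e⟩ hz _ h3, e, ?_,
    ⟨mul_mem (h1 ht) (h1 ht), mul_mem_cent e e⟩⟩, inf_le_inf_right _ h1⟩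
  exact mem_normalizer_of_conj_mem fun x hx => mem_inf.2
    ⟨mul_mem (mul_mem (h1 ht) hx.1) (inv_mem (h1 ht)),
      conj_mem_of_mem_normalizer (Cs_le_norm g (hle ht)) hx.2⟩

theorem exists_DE1 {g t : G} (hz : g ∉ center G) (e : t * g * t⁻¹ = g⁻¹) (ht : Two t) :
    ∃ D, DE N g D t :=
  (h.exists_DE hz e ht (zpowers_le.2 (mem_Cs.2 (.inr e))) (mem_zpowers t)).imp fun _ a => a.1

end Hy

namespace DE
variable {N : ℕ} {g t : G} {D : Subgroup G} (d : DE N g D t)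
include d

omit [Finite G] in
theorem rl : Rl g := ⟨t, d.inv⟩

omit [Finite G] in
theorem two_t : Two t := two_of_sq (two_of_mem d.two d.sq)

omit [Finite G] in
theorem two_E : IsPGroup 2 ↥(D ⊔ zpowers t) := two_ext d.two d.norm d.two_t

omit [Finite G] in
theorem mem_E {x : G} : x ∈ D ⊔ zpowers t ↔ x ∈ D ∨ x * t⁻¹ ∈ D := mem_ext d.norm d.sq

omit [Finite G] in
theorem E_le_norm : D ⊔ zpowers t ≤ 𝐍(D) := sup_le le_normalizer (zpowers_le.2 d.norm)

omit [Finite G] in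
theorem notMem (h2 : g * g ≠ 1) : t ∉ D := fun e =>
  h2 (sq_of_inv_of_comm d.inv (mem_cent1.1 (d.le e)))

omit [Finite G] in
theorem inv_of {x : G} (hx : x * t⁻¹ ∈ D) : x * g * x⁻¹ = g⁻¹ := by
  have := mul_inverts (d.le hx) d.inv
  rwa [inv_mul_cancel_right] at this

omit [Finite G] in
/-- Replace `t` by another element of the coset. -/
theorem change {x : G} (hx : x * t⁻¹ ∈ D) : DE N g D x := by
  refine ⟨d.two, d.le, d.card, d.inv_of hx, ?_, ?_⟩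
  · rw [show x = x * t⁻¹ * t by group]
    exact mul_mem (le_normalizer hx) d.norm
  · rw [show x * x = x * t⁻¹ * (t * (x * t⁻¹) * t⁻¹) * (t * t) by group]
    exact mul_mem (mul_mem hx (conj_mem_of_mem_normalizer d.norm hx)) d.sq

theorem card_E (h2 : g * g ≠ 1) : Nat.card ↥(D ⊔ zpowers t) = 2 * N :=
  le_antisymm (d.card ▸ card_ext_le d.norm d.sq)
    (d.card ▸ two_mul_le le_sup_left (mem_sup_right (mem_zpowers t)) (d.notMem h2))

theorem mem (h : Hy G N) (hz : g ∉ center G) {y : G} (hy : y ∈ 𝐂[g]) (hn : y ∈ 𝐍(D))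
    (h2 : Two y) : y ∈ D :=
  h.mem_of_cent d.rl hz d.two d.le d.card.ge hy hn h2

theorem center_le (h : Hy G N) (hz : g ∉ center G) : center G ≤ D := fun z a =>
  d.mem h hz (mem_cent1.2 (cen_comm a g).symm)
    (cent_le_norm _ (mem_cent.2 fun x _ => cen_comm a x)) (two_of_mem h.two_center a)

/-- A real `2`-element centralizing `D` is central or lies in `D`. -/
theorem mem_of_rl (h : Hy G N) {r : G} (hr : Rl r) (hz : r ∉ center G) (h2 : Two r)
    (hc : r ∈ 𝐂(D)) : r ∈ D :=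
  h.mem_of_cent hr hz d.two (fun x hx => mem_cent1.2 (mem_cent.1 hc x hx)) d.card.ge
    (self_mem_cent1 r) (cent_le_norm _ hc) h2

theorem nilp2 (h : Hy G N) : Nilp2 𝐂(D) := by
  refine nilp2_of_hnpc (hnpc_two_of_real_central fun r h4 hr => ?_)
  refine mem_center_iff.2 fun y => Subtype.ext ?_
  change (y : G) * r = r * y
  by_cases hz : (r : G) ∈ center G
  · exact cen_comm hz y
  obtain ⟨c, hc⟩ := isConj_iff.1 hr
  have := d.mem_of_rl h ⟨c, congrArg Subtype.val hc⟩ hz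
    (two_iff.2 ⟨2, congrArg Subtype.val h4⟩) r.2
  exact (mem_cent.1 y.2 r this).symm

/-- There is no four-group over `D` containing `t`. -/
theorem four (h : Hy G N) (ho : Odd (orderOf g)) (h1 : g ≠ 1) {y : G} (hn : y ∈ 𝐍(D))
    (hy : y * y ∈ D) (hc : y * t * y⁻¹ * t⁻¹ ∈ D) : y ∈ D ∨ y * t⁻¹ ∈ D := by
  have hz := not_center_of_odd ho h1 d.inv
  have gD : g ∈ 𝐂(D) := mem_cent.2 fun x hx => mem_cent1.1 (d.le hx)
  have gK : g ∈ Od 𝐂(D) := (d.nilp2 h).le_Od (zpowers_le.2 gD) (by rwa [Nat.card_zpowers])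
    (mem_zpowers g)
  set K := Od 𝐂(D) with hK
  have nK : ∀ a ∈ 𝐍(D), ∀ k ∈ K, a * k * a⁻¹ ∈ K := fun a ha k hk =>
    conj_mem_of_mem_normalizer (norm_le_norm_Od _ (Cop.normalizer_le_normalizer_centralizer D ha)) hk
  have cK : ∀ a ∈ D, ∀ k ∈ K, a * k * a⁻¹ = k := fun a ha k hk => by
    rw [mem_cent.1 (Od_le _ hk) a ha]; group
  have yy : ∀ k ∈ K, y * (y * k * y⁻¹) * y⁻¹ = k := fun k hk => by
    refine Eq.trans ?_ (cK _ hy k hk)
    simp only [mul_assoc, mul_inv_rev]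
  have yt : ∀ k ∈ K, y * (t * k * t⁻¹) * y⁻¹ = t * (y * k * y⁻¹) * t⁻¹ := fun k hk => by
    rw [← cK _ hc _ (nK t d.norm _ (nK y hn k hk))]; group
  have mK : (y * g * y⁻¹)⁻¹ * g ∈ K := mul_mem (inv_mem (nK y hn g gK)) gK
  obtain ⟨j, hj, ej⟩ := exists_sqrt (odd_of_mem_Od mK)
  have jK : j ∈ K := zpowers_le.2 mK hj
  have yj : y * j * y⁻¹ = j⁻¹ := by
    refine inv_of_mem_zpowers ?_ hj
    rw [show y * ((y * g * y⁻¹)⁻¹ * g) * y⁻¹ = (y * (y * g * y⁻¹) * y⁻¹)⁻¹ * (y * g * y⁻¹) by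
      simp only [mul_assoc, mul_inv_rev, inv_inv, inv_mul_cancel_left], yy g gK]
    group
  have cK' : g * j⁻¹ ∈ K := mul_mem gK (inv_mem jK)
  have yc : y * (g * j⁻¹) * y⁻¹ = g * j⁻¹ := by
    have e : y * g * y⁻¹ = g * (j * j)⁻¹ := by rw [ej]; group
    rw [show y * (g * j⁻¹) * y⁻¹ = y * g * y⁻¹ * (y * j * y⁻¹)⁻¹ by group, yj, e]
    group
  set c := g * j⁻¹ with hcdef
  have eg : g = c * j := by rw [hcdef]; group
  have tc : t * c * t⁻¹ = c⁻¹ := by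
    have e1 : t * j * t⁻¹ = c * j⁻¹ * c⁻¹ := by
      refine eq_of_sq_eq (odd_of_mem_Od (nK t d.norm j jK))
        (odd_of_mem_Od (mul_mem (mul_mem cK' (inv_mem jK)) (inv_mem cK'))) ?_
      have e2 : y * g * y⁻¹ = c * j⁻¹ := by
        rw [eg, show y * (c * j) * y⁻¹ = y * c * y⁻¹ * (y * j * y⁻¹) by group, yc, yj]
      rw [show t * j * t⁻¹ * (t * j * t⁻¹) = t * (j * j) * t⁻¹ by group, ej,
        show t * ((y * g * y⁻¹)⁻¹ * g) * t⁻¹ = (t * (y * g * y⁻¹) * t⁻¹)⁻¹ * (t * g * t⁻¹) by group,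
        ← yt g gK, d.inv, show y * g⁻¹ * y⁻¹ = (y * g * y⁻¹)⁻¹ by group, e2, eg]
      group
    have e3 := d.inv
    rw [eg, show t * (c * j) * t⁻¹ = t * c * t⁻¹ * (t * j * t⁻¹) by group, e1] at e3
    rw [eq_mul_inv_of_mul_eq e3]
    group
  have y2 : Two y := two_of_sq (two_of_mem d.two hy)
  by_cases c1 : c = 1
  · right
    rw [c1, one_mul] at eg
    refine d.mem h hz (mul_mem_cent (eg ▸ yj) (inv_inverts d.inv)) (mul_mem hn (inv_mem d.norm))
      (two_of_sq (two_of_mem d.two ?_))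
    have e : y * t⁻¹ * (y * t⁻¹) = t⁻¹ * (t * y * t⁻¹ * y⁻¹ * (y * y)) * t⁻¹⁻¹ * (t * t)⁻¹ := by
      group
    rw [e]
    refine mul_mem (conj_mem_of_mem_normalizer (inv_mem d.norm) (mul_mem ?_ hy)) (inv_mem d.sq)
    rw [show t * y * t⁻¹ * y⁻¹ = (y * t * y⁻¹ * t⁻¹)⁻¹ by group]
    exact inv_mem hc
  · left
    exact h.mem_of_cent ⟨t, tc⟩ (not_center_of_odd (odd_of_mem_Od cK') c1 tc) d.two
      (fun x hx => mem_cent1.2 (mem_cent.1 (Od_le _ cK') x hx)) d.card.ge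
      (U4.mem_cent1_of_conj_eq yc) hn y2

end DE

/-! ### Elements centralizing `ρ` modulo the centre -/

/-- `ρ⁻¹ ρ^y`. -/
def ph (r y : G) : G := r⁻¹ * (y * r * y⁻¹)

omit [Finite G] in
theorem conj_eq_ph (r y : G) : y * r * y⁻¹ = r * ph r y := by rw [ph]; group

omit [Finite G] in
theorem ph_eq_one {r y : G} : ph r y = 1 ↔ y ∈ 𝐂[r] := by
  rw [ph, inv_mul_eq_one, eq_comm, mem_cent1, mul_inv_eq_iff_eq_mul]

omit [Finite G] in
theorem ph_mul' (r : G) (a : G) {b : G} (hb : ph r b ∈ center G) :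
    ph r (a * b) = ph r a * ph r b := by
  rw [ph, show a * b * r * (a * b)⁻¹ = a * (b * r * b⁻¹) * a⁻¹ by group, conj_eq_ph r b,
    show a * (r * ph r b) * a⁻¹ = a * r * a⁻¹ * (a * ph r b * a⁻¹) by group, cen_conj hb,
    ← mul_assoc]
  rfl

/-- The centralizer modulo the centre. -/
def Co (r : G) : Subgroup G where
  carrier := {y | ph r y ∈ center G}
  one_mem' := by
    change ph r 1 ∈ center G
    rw [ph_eq_one.2 (one_mem _)]; exact one_mem _
  mul_mem' := fun {a b} ha hb => by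
    change ph r (a * b) ∈ center G
    rw [ph_mul' r a hb]; exact mul_mem ha hb
  inv_mem' := fun {a} ha => by
    change ph r a⁻¹ ∈ center G
    have := ph_mul' r a⁻¹ ha
    rw [inv_mul_cancel, ph_eq_one.2 (one_mem _)] at this
    rw [eq_inv_of_mul_eq_one_left this.symm]
    exact inv_mem ha

section
omit [Finite G]

theorem mem_Co {r y : G} : y ∈ Co r ↔ ph r y ∈ center G := Iff.rfl

theorem mem_Co_of {r y z : G} (hz : z ∈ center G) (e : y * r * y⁻¹ = r * z) : y ∈ Co r := by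
  rw [mem_Co, ph, e, inv_mul_cancel_left]; exact hz

theorem ph_of {r y z : G} (e : y * r * y⁻¹ = r * z) : ph r y = z := by
  rw [ph, e, inv_mul_cancel_left]

theorem ph_mul {r : G} (a : G) {b : G} (hb : b ∈ Co r) : ph r (a * b) = ph r a * ph r b :=
  ph_mul' r a hb

theorem ph_inv {r a : G} (ha : a ∈ Co r) : ph r a⁻¹ = (ph r a)⁻¹ := by
  have := ph_mul a⁻¹ ha
  rw [inv_mul_cancel, ph_eq_one.2 (one_mem _)] at this
  exact eq_inv_of_mul_eq_one_left this.symm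

theorem cent_le_Co (r : G) : 𝐂[r] ≤ Co r := fun y hy => by
  rw [mem_Co, ph_eq_one.2 hy]; exact one_mem _

theorem self_mem_Co (r : G) : r ∈ Co r := cent_le_Co r (self_mem_cent1 r)

theorem ph_symm {r y : G} (h : y ∈ Co r) : ph y r = (ph r y)⁻¹ := by
  have e := conj_eq_ph r y
  refine ph_of (eq_mul_inv_of_mul_eq ?_)
  rw [mul_assoc (r * y), cen_comm h, ← mul_assoc, mul_assoc r y, cen_comm h y, ← mul_assoc, ← e]
  group

theorem mem_Co_comm {r y : G} (h : y ∈ Co r) : r ∈ Co y := by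
  rw [mem_Co, ph_symm h]; exact inv_mem h

theorem ph_sq {r y : G} (hr : r * r ∈ center G) (h : y ∈ Co r) : ph r y * ph r y = 1 := by
  have e := cen_conj hr y
  rw [show y * (r * r) * y⁻¹ = y * r * y⁻¹ * (y * r * y⁻¹) by group, conj_eq_ph,
    show r * ph r y * (r * ph r y) = r * (ph r y * r) * ph r y by group, ← cen_comm h] at e
  exact mul_left_cancel (a := r * r) (by rw [mul_one]; exact Eq.trans (by group) e)

theorem ph_conj (r y g : G) : ph (g * r * g⁻¹) y = g * ph r (g⁻¹ * y * g) * g⁻¹ := by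
  simp only [ph]; group

theorem mem_Co_conj {r y g : G} : y ∈ Co (g * r * g⁻¹) ↔ g⁻¹ * y * g ∈ Co r := by
  rw [mem_Co, ph_conj, conj_mem_center, mem_Co]

theorem ph_conj' {r y g : G} (h : g⁻¹ * y * g ∈ Co r) :
    ph (g * r * g⁻¹) y = ph r (g⁻¹ * y * g) := by
  rw [ph_conj, cen_conj h]

theorem ph_mul_left {r s y : G} (h : y ∈ Co r) : ph (r * s) y = ph r y * ph s y := by
  refine ph_of ?_
  rw [show y * (r * s) * y⁻¹ = y * r * y⁻¹ * (y * s * y⁻¹) by group, conj_eq_ph, conj_eq_ph s,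
    mul_assoc r, ← mul_assoc (ph r y), ← cen_comm h]
  group

theorem ph_inv_left {r y : G} (h : y ∈ Co r) : ph r⁻¹ y = (ph r y)⁻¹ := by
  refine ph_of ?_
  rw [show y * r⁻¹ * y⁻¹ = (y * r * y⁻¹)⁻¹ by group, conj_eq_ph, cen_comm h, mul_inv_rev]

theorem mem_Co_mul {r s y : G} (h : y ∈ Co r) (h' : y ∈ Co s) : y ∈ Co (r * s) := by
  rw [mem_Co, ph_mul_left h]; exact mul_mem h h'

theorem mem_Co_inv {r y : G} (h : y ∈ Co r) : y ∈ Co r⁻¹ := by
  rw [mem_Co, ph_inv_left h]; exact inv_mem h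

theorem mem_Co_of_inv {r y : G} (hr : r * r ∈ center G) (e : y * r * y⁻¹ = r⁻¹) : y ∈ Co r :=
  mem_Co_of (inv_mem hr) (by rw [e]; group)

theorem ph_of_inv {r y : G} (e : y * r * y⁻¹ = r⁻¹) : ph r y = (r * r)⁻¹ :=
  ph_of (by rw [e]; group)

theorem inv_of_ph {r y : G} (e : ph r y = (r * r)⁻¹) : y * r * y⁻¹ = r⁻¹ := by
  rw [conj_eq_ph, e]; group

theorem sq_mem_cent {r y : G} (hr : r * r ∈ center G) (h : y ∈ Co r) : y * y ∈ 𝐂[r] :=
  ph_eq_one.1 (by rw [ph_mul y h, ph_sq hr h])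

theorem comm_mem_cent {r y t : G} (h : y ∈ Co r) (h' : t ∈ Co r) : y * t * y⁻¹ * t⁻¹ ∈ 𝐂[r] := by
  refine ph_eq_one.1 ?_
  rw [ph_mul _ (inv_mem h'), ph_mul _ (inv_mem h), ph_mul _ h', ph_inv h, ph_inv h',
    cen_comm h' (ph r y)]
  group

theorem conj_mem_cent {r y c : G} (h : y ∈ Co r) (hc : c ∈ 𝐂[r]) : y * c * y⁻¹ ∈ 𝐂[r] := by
  have := mul_mem (comm_mem_cent h (cent_le_Co r hc)) hc
  rwa [inv_mul_cancel_right] at this

/-- `ph r` as a homomorphism. -/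
def phHom (r : G) : Co r →* G := MonoidHom.mk' (fun y => ph r y) fun a b => ph_mul a.1 b.2

/-- The values of `ph r` on `A`. -/
def Phi (r : G) (A : Subgroup G) : Subgroup G := (A.subgroupOf (Co r)).map (phHom r)

theorem ph_mem_Phi {r y : G} {A : Subgroup G} (hA : A ≤ Co r) (hy : y ∈ A) : ph r y ∈ Phi r A :=
  ⟨⟨y, hA hy⟩, hy, rfl⟩

theorem mem_Phi {r z : G} {A : Subgroup G} (h : z ∈ Phi r A) : ∃ y ∈ A, y ∈ Co r ∧ ph r y = z := by
  obtain ⟨y, h1, h2⟩ := h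
  exact ⟨y, h1, y.2, h2⟩

theorem Phi_le {r : G} {A B : Subgroup G} (h : ∀ y ∈ A, ph r y ∈ B) : Phi r A ≤ B := fun _ hz => by
  obtain ⟨y, h1, -, rfl⟩ := mem_Phi hz
  exact h y h1

theorem Phi_le_center (r : G) (A : Subgroup G) : Phi r A ≤ center G := fun _ hz => by
  obtain ⟨y, -, h1, rfl⟩ := mem_Phi hz
  exact h1

theorem card_Phi {r : G} {A : Subgroup G} (hA : A ≤ Co r) :
    Nat.card A = Nat.card ↥(A ⊓ 𝐂[r]) * Nat.card (Phi r A) := by
  have e : (phHom r).ker = (𝐂[r]).subgroupOf (Co r) := by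
    ext y; exact ph_eq_one
  rw [Phi, ← relIndex_ker, e, relIndex_subgroupOf hA, inf_comm, card_inf_mul_relIndex]

end

theorem Co_le_norm (r : G) : Co r ≤ 𝐍(𝐂[r]) := fun _ hy =>
  mem_normalizer_of_conj_mem fun _ hc => conj_mem_cent hy hc

theorem le_norm_inf_cent {r : G} {S : Subgroup G} (h : S ≤ Co r) : S ≤ 𝐍(S ⊓ 𝐂[r]) := fun _ hy =>
  mem_normalizer_of_conj_mem fun _ hc => mem_inf.2
    ⟨mul_mem (mul_mem hy hc.1) (inv_mem hy), conj_mem_cent (h hy) hc.2⟩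

namespace Hy
variable {N : ℕ} (h : Hy G N)
include h

theorem card_le_Phi {r : G} (hr : Rl r) (hz : r ∉ center G) {A B : Subgroup G}
    (hA : IsPGroup 2 A) (hB : B ≤ center G) (h1 : ∀ y ∈ A, ph r y ∈ B) :
    Nat.card A ≤ N * Nat.card B := by
  rw [card_Phi (r := r) fun y hy => hB (h1 y hy)]
  exact Nat.mul_le_mul (h.le_N hr hz (hA.to_le inf_le_left) inf_le_right)
    (card_le_of_le (Phi_le h1))

theorem card_inf_cent {r : G} (hr : Rl r) (hz : r ∉ center G) {T : Subgroup G}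
    (hT : IsSylowIn 2 T (Co r)) : Nat.card ↥(T ⊓ 𝐂[r]) = N :=
  h.card r hr hz _ (hT.inf_of_le_normalizer (cent_le_Co r) (hT.le.trans (Co_le_norm r)))

/-- Real elements with central square are `2`-central modulo the centre. -/
theorem max {r : G} (hr : Rl r) (hz : r ∉ center G) (h2 : r * r ∈ center G) {T : Subgroup G}
    (hT : IsSylowIn 2 T (Co r)) : IsSylowIn 2 T ⊤ := by
  have := Fact.mk Nat.prime_two
  by_contra hn
  obtain ⟨y, yn, yT, yy⟩ := grow' hT.isPGroup hn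
  have y2 : Two y := two_of_sq (two_of_mem hT.isPGroup yy)
  have hA := two_ext hT.isPGroup yn y2
  have yC : y ∉ Co r := fun e => yT (hT.eq_of_le hA le_sup_left
    (sup_le hT.le (zpowers_le.2 e)) ▸ mem_sup_right (mem_zpowers y))
  have rT : r ∈ T := by
    have e := h.card_inf_cent hr hz hT
    exact (h.mem_of_cent hr hz (hT.isPGroup.to_le inf_le_left) inf_le_right e.ge
      (self_mem_cent1 r) (cent_le_norm _ (mem_cent.2 fun x hx => mem_cent1.1 hx.2))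
      (h.two_of_sq_center h2)).1
  have e2 : r * r = y * r * y⁻¹ * (y * r * y⁻¹) := by
    rw [← cen_conj h2 y]; group
  have key : ∀ t ∈ T, ph (r * (y * r * y⁻¹)⁻¹) t ∈ Phi r T := fun t ht => by
    have h3 := conj_mem_of_mem_normalizer' yn ht
    rw [ph_mul_left (hT.le ht), ph_inv_left (mem_Co_conj.2 (hT.le h3)), ph_conj' (hT.le h3)]
    exact mul_mem (ph_mem_Phi hT.le ht) (inv_mem (ph_mem_Phi hT.le h3))
  have ky : ph (r * (y * r * y⁻¹)⁻¹) y ∈ Phi r T := by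
    have e3 : y * (r * (y * r * y⁻¹)⁻¹) * y⁻¹ =
        (r * (y * r * y⁻¹)⁻¹)⁻¹ * (ph r (y * y))⁻¹ := by
      have e4 : y * (r * (y * r * y⁻¹)⁻¹) * y⁻¹ = y * r * y⁻¹ * (y * y * r * (y * y)⁻¹)⁻¹ := by
        simp only [mul_assoc, mul_inv_rev, inv_inv, inv_mul_cancel_left]
      rw [e4, conj_eq_ph r (y * y), cen_comm (hT.le yy) r]
      group
    rw [← inv_pair e2 h2, conj_eq_ph _ r, mul_assoc (r * (y * r * y⁻¹)⁻¹)] at e3
    rw [ph_of e3]
    exact mul_mem (key r rT) (inv_mem (ph_mem_Phi hT.le yy))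
  have h4 := h.card_le_Phi (r := r * (y * r * y⁻¹)⁻¹) ⟨r, inv_pair e2 h2⟩ (fun e => yC ?_) hA
    (Phi_le_center r T) fun x hx => ?_
  · have h5 := two_mul_le (le_sup_left : T ≤ T ⊔ zpowers y) (mem_sup_right (mem_zpowers y)) yT
    rw [card_Phi hT.le, h.card_inf_cent hr hz hT] at h5
    have h6 := card_Phi hT.le
    rw [h.card_inf_cent hr hz hT] at h6
    have := Nat.card_pos (α := T)
    omega
  · refine mem_Co_of (inv_mem e) ?_
    rw [cen_comm (inv_mem e)]; group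
  · rcases (mem_ext yn yy).1 hx with a | a
    · exact key x a
    · rw [show x = x * y⁻¹ * y by group, ph_mul _ (Phi_le_center r T ky)]
      exact mul_mem (key _ a) ky

end Hy

end CfsgLib.RC
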