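import Cfsg.Agent.Lib.RC.Basic
import Cfsg.Agent.Lib.Blk.ZStar
import Cfsg.Agent.Lib.SylowAction

/-!
# Commuting sets of conjugate involutions
-/

set_option autoImplicit false

namespace CfsgLib.RC

open Subgroup Cfsg CfsgLib.FT CfsgLib.FT.BGN CfsgLib.GW
open CfsgLib.FT.U4 (mem_cent1 mem_cent1' mem_cent mem_cent1_comm self_mem_cent1 cent1_conj
  orderOf_conj cent_le_cent1)

variable {X : Type*} [Group X]

theorem mem_norm_set {Y : Set X} {g : X} (h1 : ∀ y ∈ Y, g * y * g⁻¹ ∈ Y)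
    (h2 : ∀ y ∈ Y, g⁻¹ * y * g ∈ Y) : g ∈ normalizer Y := fun n =>
  ⟨h1 n, fun h => by simpa [mul_assoc] using h2 _ h⟩

theorem isConj_conj {a e : X} (h : IsConj a e) (g : X) : IsConj a (g * e * g⁻¹) :=
  h.trans (isConj_iff.2 ⟨g, rfl⟩)

theorem sq_of_isConj {a e : X} (ha : orderOf a = 2) (h : IsConj a e) : e * e = 1 := by
  obtain ⟨g, rfl⟩ := isConj_iff.1 h
  exact mul_self_of_inv ((orderOf_conj g a).trans ha)

theorem two_of_sq_one {e : X} (h : e * e = 1) : Two e := two_iff.2 ⟨1, by rw [pow_one, sq, h]⟩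

theorem two_pair {a e : X} (ha : Two a) (he : Two e) (h : a * e = e * a) :
    IsPGroup 2 ↥(zpowers a ⊔ zpowers e) :=
  two_ext ha (cent_le_norm _ (by rw [U4.cent_zpowers]; exact mem_cent1'.2 h)) he

variable [Finite X]

theorem ncard_modEq_conj {T : Subgroup X} (hT : IsPGroup 2 T) (S : Set X)
    (hS : ∀ g ∈ T, ∀ x ∈ S, g * x * g⁻¹ ∈ S) :
    S.ncard ≡ {x | x ∈ S ∧ ∀ g ∈ T, g * x * g⁻¹ = x}.ncard [MOD 2] := by
  have := Fact.mk Nat.prime_two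
  letI : MulAction X X := MulAction.compHom X (MulAut.conj : X →* MulAut X)
  exact H4.ncard_modEq_ncard_fixed hT S hS

theorem exists_fixed_of_odd {S : Set X} (ho : Odd S.ncard) {r : X} (hr : r * r = 1)
    (hS : ∀ x ∈ S, r * x * r⁻¹ ∈ S) : ∃ x ∈ S, r * x = x * r := by
  have e : ∀ g ∈ zpowers r, g = 1 ∨ g = r := fun g hg => by
    by_cases h1 : r = 1
    · exact .inl (by simpa [h1] using hg)
    · exact (mem_zpowers_inv (inv_of_mul_self hr h1)).1 hg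
  have h := ncard_modEq_conj (two_of_sq_one hr) S fun g hg x hx => by
    rcases e g hg with rfl | rfl
    · simpa using hx
    · exact hS x hx
  obtain ⟨x, hx, h2⟩ := Set.nonempty_of_ncard_ne_zero
    (s := {x | x ∈ S ∧ ∀ g ∈ zpowers r, g * x * g⁻¹ = x}) fun e => by
      rw [e] at h
      exact Nat.not_even_iff_odd.2 ho (even_iff_two_dvd.2 ((Nat.modEq_zero_iff_dvd).1 h))
  exact ⟨x, hx, mul_inv_eq_iff_eq_mul.1 (h2 r (mem_zpowers r))⟩

theorem zstar_amb {M : Subgroup X} {y : X} (hy : y ∈ M) (h2 : orderOf y = 2)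
    (h : ∀ k ∈ M, y * (k * y * k⁻¹) = (k * y * k⁻¹) * y → k * y * k⁻¹ = y) {g : X} (hg : g ∈ M) :
    g * y * g⁻¹ * y⁻¹ ∈ Od M := by
  have hi : IsIsolated (⟨y, hy⟩ : M) := fun k hk =>
    Subtype.ext (h k k.2 (congrArg Subtype.val hk))
  have := Blk.glauberman_zstar M ⟨y, hy⟩ ((orderOf_mk y _).trans h2) hi ⟨g, hg⟩
  rw [Od, piCoreOf_compl_eq]
  exact ⟨_, this, rfl⟩

/-- The conjugates of `a` in `P`. -/
def Yc (a : X) (P : Subgroup X) : Set X := {e | e ∈ P ∧ IsConj a e}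

omit [Finite X] in
theorem mem_Yc_conj {a e g : X} {P : Subgroup X} : g * e * g⁻¹ ∈ Yc a (g •ᶜ P) ↔ e ∈ Yc a P := by
  refine and_congr U4.conj_mem_conj_iff ⟨fun h => ?_, fun h => isConj_conj h g⟩
  simpa [mul_assoc] using isConj_conj h g⁻¹

omit [Finite X] in
theorem ncard_Yc_conj (a g : X) (P : Subgroup X) : (Yc a (g •ᶜ P)).ncard = (Yc a P).ncard := by
  have e : Yc a (g •ᶜ P) = MulAut.conj g '' Yc a P := by
    ext y
    refine ⟨fun h => ⟨g⁻¹ * y * g, (mem_Yc_conj (g := g)).1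
      (by rwa [show g * (g⁻¹ * y * g) * g⁻¹ = y by group]), by simp [mul_assoc]⟩, ?_⟩
    rintro ⟨y, h, rfl⟩
    exact mem_Yc_conj.2 h
  rw [e, Set.ncard_image_of_injective _ (MulAut.conj g).injective]

/-- If the products of `a` with its conjugates in `P` are pairwise non-conjugate, `a` is
isolated. -/
theorem fl_core {a : X} (ha : orderOf a = 2) {P P0 : Subgroup X} (hP : IsSylowIn 2 P ⊤)
    (hP0 : IsSylowIn 2 P0 ⊤) (h0 : P0 ≤ 𝐂[a]) (aP : a ∈ P)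
    (hcomm : ∀ e ∈ Yc a P, ∀ e' ∈ Yc a P, e * e' = e' * e)
    (hcol : ∀ e ∈ Yc a P, ∀ e' ∈ Yc a P, e ≠ a → e' ≠ a → IsConj (a * e) (a * e') → e = e')
    (k : X) (hk : a * (k * a * k⁻¹) = (k * a * k⁻¹) * a) : k * a * k⁻¹ = a := by
  have := Fact.mk Nat.prime_two
  have aY : a ∈ Yc a P := ⟨aP, IsConj.refl a⟩
  have h1 : ∀ e ∈ Yc a P, ∃ g, g * a * g⁻¹ = e ∧ Yc a (g •ᶜ P0) = Yc a P := fun e he => by
    obtain ⟨k, rfl⟩ := isConj_iff.1 he.2
    have h2 : IsSylowIn 2 (k •ᶜ P0) 𝐂[k * a * k⁻¹] := by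
      rw [cent1_conj]; exact (hP0.mono h0 le_top).map_conj k
    obtain ⟨c, hc, h3⟩ := h2.exists_conj_le (Q := closure (Yc a P))
      (hP.isPGroup.to_le ((closure_le _).2 fun y hy => hy.1))
      ((closure_le _).2 fun y hy => mem_cent1.2 (hcomm y hy _ he))
    refine ⟨c⁻¹ * k, ?_, (Set.eq_of_subset_of_ncard_le (s := Yc a P)
      (t := Yc a ((c⁻¹ * k) •ᶜ P0)) (fun y hy => And.intro ?_ hy.2) ?_).symm⟩
    · rw [show c⁻¹ * k * a * (c⁻¹ * k)⁻¹ = c⁻¹ * (k * a * k⁻¹) * c⁻¹⁻¹ by group,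
        U4.conj_eq_of_mem_cent1 (inv_mem hc)]
    · have h4 := mem_map_conj_iff.1 (h3 (conj_mem_map_conj (subset_closure hy)))
      exact mem_map_conj_iff.2 (by simpa [mul_assoc] using h4)
    · obtain ⟨m, -, h4⟩ := hP.exists_conj_eq hP0
      rw [ncard_Yc_conj, ← h4, ncard_Yc_conj]
  obtain ⟨g0, e0, y0⟩ := h1 a aY
  have hPa : IsSylowIn 2 (g0 •ᶜ P0) ⊤ := hP0.map_conj_of_mem_normalizer (le_normalizer trivial)
  have h2 : g0 •ᶜ P0 ≤ 𝐂[a] := by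
    rw [← e0, cent1_conj]; exact map_mono h0
  have h3 : ∀ y ∈ g0 •ᶜ P0, ∀ e ∈ Yc a P, y * e * y⁻¹ ∈ Yc a P := fun y hy e he => by
    rw [← y0] at he ⊢
    exact ⟨mul_mem (mul_mem hy he.1) (inv_mem hy), isConj_conj he.2 y⟩
  have h4 : ∀ y ∈ g0 •ᶜ P0, ∀ e ∈ Yc a P, y * e * y⁻¹ = e := fun y hy e he => by
    have h5 := U4.conj_eq_of_mem_cent1 (h2 hy)
    by_cases e1 : e = a
    · rw [e1, h5]
    refine (hcol e he _ (h3 y hy e he) e1 (fun e2 => e1 ?_) (isConj_iff.2 ⟨y, ?_⟩)).symm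
    · rw [← h5] at e2
      simpa using e2
    · conv_rhs => rw [← h5]
      group
  have h5 : ∀ g ∈ normalizer (Yc a P), g * g ∈ 𝐂[a] := fun g hg => by
    by_cases e1 : g * a * g⁻¹ = a
    · exact mul_mem (U4.mem_cent1_of_conj_eq e1) (U4.mem_cent1_of_conj_eq e1)
    have a1 := (hg a).1 aY
    have e2 := hcol _ ((inv_mem hg a).1 aY) _ a1 (fun e2 => e1 (by
      conv_lhs => rw [← e2]
      group)) e1 (isConj_iff.2 ⟨g, by rw [hcomm a aY _ a1]; group⟩)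
    refine U4.mem_cent1_of_conj_eq ?_
    rw [show g * g * a * (g * g)⁻¹ = g * (g * a * g⁻¹) * g⁻¹ by
      simp only [mul_assoc, mul_inv_rev], ← e2]
    group
  have h6 : ∀ g ∈ normalizer (Yc a P), g ∈ 𝐂[a] := fun g hg => by
    obtain ⟨u, hu, v, hv, e, u2, vo⟩ := GD.exists_two_part g
    have hv' : v ∈ 𝐂[a] :=
      zpowers_le.2 (h5 v (zpowers_le.2 hg hv)) (mem_zpowers_sq vo)
    have hu' := zpowers_le.2 hg hu
    obtain ⟨m, hm, h7⟩ := (hPa.mono (K := normalizer (Yc a P)) (fun y hy => mem_norm_set (h3 y hy)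
      (by simpa using h3 _ (inv_mem hy))) le_top).exists_conj_le u2 (zpowers_le.2 hu')
    have h8 := h4 _ (h7 (conj_mem_map_conj (mem_zpowers u))) _ ((hm a).1 aY)
    rw [e]
    refine mul_mem (U4.mem_cent1_of_conj_eq ?_) hv'
    have : m * (u * a * u⁻¹) * m⁻¹ = m * a * m⁻¹ := by rw [← h8]; group
    simpa using this
  have h7 : ∀ e ∈ Yc a P, e = a := fun e he => by
    obtain ⟨g, e1, y1⟩ := h1 e he
    have h8 : g * g0⁻¹ ∈ normalizer (Yc a P) := fun n => by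
      conv_lhs => rw [← y0, show n = g0 * (g0⁻¹ * n * g0) * g0⁻¹ by group, mem_Yc_conj]
      rw [← y1, show g * g0⁻¹ * n * (g * g0⁻¹)⁻¹ = g * (g0⁻¹ * n * g0) * g⁻¹ by group, mem_Yc_conj]
    have h9 := U4.conj_eq_of_mem_cent1 (h6 _ h8)
    rw [← e1, ← h9]
    conv_rhs => rw [← e0]
    rw [h9]
    group
  have a2 := two_of_sq_one (mul_self_of_inv ha)
  obtain ⟨m, -, h8⟩ := hP.exists_conj_le (two_pair a2 (a2.conj k) hk) le_top
  have e1 := h7 _ ⟨h8 (conj_mem_map_conj (mem_sup_left (mem_zpowers a))),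
    isConj_conj (IsConj.refl a) m⟩
  have e2 := h7 _ ⟨h8 (conj_mem_map_conj (mem_sup_right (mem_zpowers _))),
    isConj_conj (isConj_conj (IsConj.refl a) k) m⟩
  simpa using e2.trans e1.symm

end CfsgLib.RC
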